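import Cfsg.Agent.Lib.Ord6.Basic
import Cfsg.Agent.Lib.AltAut.Basic

/-! Facts on `A₅`, `A₆` and their automorphism groups. -/

set_option autoImplicit false
set_option linter.unusedSectionVars false

namespace CfsgLib.Ord6

open Cfsg Subgroup Equiv Equiv.Perm

universe u

/-- A Frobenius subgroup with kernel a `q`-group and cyclic complement of order `m + 1`. -/
def Fr (L : Type*) [Group L] (m q : ℕ) : Prop :=
  ∃ (F : Subgroup L) (s : L), (∀ f ∈ F, s * f * s⁻¹ ∈ F) ∧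
    (∀ i, i < m → ∀ f ∈ F, f * s ^ (i + 1) = s ^ (i + 1) * f → f = 1) ∧ orderOf s = m + 1 ∧
    (∀ f ∈ F, f ^ q = 1) ∧ F ≠ ⊥

theorem Fr.map {L L' : Type*} [Group L] [Group L'] {m q : ℕ} (h : Fr L m q) (ι : L →* L')
    (hι : Function.Injective ι) : Fr L' m q := by
  obtain ⟨F, s, h1, h2, h3, h4, h5⟩ := h
  refine ⟨F.map ι, ι s, ?_, fun i hi => ?_, by rw [orderOf_injective ι hι, h3], ?_,
    mt (map_eq_bot_iff_of_injective F hι).1 h5⟩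
  · rintro _ ⟨f, hf, rfl⟩
    exact ⟨_, h1 f hf, by simp⟩
  · rintro _ ⟨f, hf, rfl⟩ e
    rw [h2 i hi f hf (hι (by simpa using e)), map_one]
  · rintro _ ⟨f, hf, rfl⟩
    rw [← map_pow, h4 f hf, map_one]

theorem fr_of_list {L : Type*} [Group L] [DecidableEq L] (K : Subgroup L) (m q : ℕ) (l : List L) (s : L)
    (hK : ∀ a ∈ s :: l, a ∈ K)
    (h : 1 ∈ l ∧ (∀ a ∈ l, ∀ b ∈ l, a * b ∈ l) ∧ (∀ a ∈ l, a⁻¹ ∈ l) ∧ (∀ f ∈ l, s * f * s⁻¹ ∈ l) ∧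
      (∀ i, i < m → ∀ f ∈ l, f * s ^ (i + 1) = s ^ (i + 1) * f → f = 1) ∧ s ^ (m + 1) = 1 ∧
      (∀ f ∈ l, f ^ q = 1) ∧ ∃ f ∈ l, f ≠ 1) : Fr K m q := by
  obtain ⟨h1, h2, h3, h4, h5, h6, h7, f, hf, f1⟩ := h
  refine ⟨⟨⟨⟨{a | (a : L) ∈ l}, fun ha hb => h2 _ ha _ hb⟩, h1⟩, fun ha => h3 _ ha⟩,
    ⟨s, hK s (by simp)⟩, fun f hf => h4 f hf,
    fun i hi f hf e => Subtype.ext (h5 i hi f hf (congrArg Subtype.val e)), ?_,
    fun f hf => Subtype.ext (h7 f hf),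
    fun e => f1 (congrArg Subtype.val (mem_bot.1 (e.le (x := ⟨f, hK f (by simp [hf])⟩) hf)))⟩
  rw [orderOf_mk]
  refine (orderOf_eq_iff m.succ_pos).2 ⟨h6, fun k hk k0 e => ?_⟩
  obtain ⟨k, rfl⟩ := Nat.exists_eq_succ_of_ne_zero k0.ne'
  exact f1 (h5 k (by omega) f hf (by rw [e, mul_one, one_mul]))

theorem fr_A5 : Fr A5 2 2 :=
  fr_of_list _ 2 2 [1, swap 0 1 * swap 2 3, swap 0 2 * swap 1 3, swap 0 3 * swap 1 2]
    (swap 0 1 * swap 1 2) (by simp [mem_alternatingGroup])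
    (by refine ⟨?_, ?_, ?_, ?_, ?_, ?_, ?_, ?_⟩ <;> decide +kernel)

theorem fr_A6 : Fr A6 2 2 :=
  fr_of_list _ 2 2 [1, swap 0 1 * swap 2 3, swap 0 2 * swap 1 3, swap 0 3 * swap 1 2]
    (swap 0 1 * swap 1 2) (by simp [mem_alternatingGroup])
    (by refine ⟨?_, ?_, ?_, ?_, ?_, ?_, ?_, ?_⟩ <;> decide +kernel)

theorem fr_S5 : Fr (Perm (Fin 5)) 3 5 :=
  (fr_of_list ⊤ 3 5 ((List.range 5).map fun i => finRotate 5 ^ i) (swap 1 3 * swap 1 4 * swap 1 2)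
    (fun _ _ => trivial) (by refine ⟨?_, ?_, ?_, ?_, ?_, ?_, ?_, ?_⟩ <;> decide +kernel)).map _
    (subtype_injective _)

theorem fr_A6' : Fr A6 3 3 :=
  fr_of_list _ 3 3 ((List.range 9).map fun i =>
    (swap 0 1 * swap 1 2) ^ (i / 3) * (swap 3 4 * swap 4 5) ^ (i % 3))
    (swap 0 3 * (swap 1 5 * swap 1 2 * swap 1 4)) (by
      simp only [List.mem_cons, List.mem_map, mem_alternatingGroup]
      rintro _ (rfl | ⟨i, -, rfl⟩) <;> simp)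
    (by refine ⟨?_, ?_, ?_, ?_, ?_, ?_, ?_, ?_⟩ <;> decide +kernel)

theorem a5_inv : ∀ u : A5, u * u = 1 → u ≠ 1 → ∃ f : A5, f ^ 5 = 1 ∧ f ≠ 1 ∧ u * f * u⁻¹ = f⁻¹ := by
  have : ∀ u : Perm (Fin 5), u * u = 1 → u ≠ 1 → sign u = 1 →
      ∃ f : Perm (Fin 5), f ^ 5 = 1 ∧ f ≠ 1 ∧ u * f * u⁻¹ = f⁻¹ ∧ sign f = 1 := by decide +kernel
  intro u h1 h2
  obtain ⟨f, f1, f2, f3, f4⟩ := this u (congrArg Subtype.val h1) (fun e => h2 (Subtype.ext e)) u.2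
  exact ⟨⟨f, f4⟩, Subtype.ext f1, fun e => f2 (congrArg Subtype.val e), Subtype.ext f3⟩

theorem a5_four : ∀ u : A5, u ^ 4 = 1 → u * u = 1 := by
  have : ∀ u : Perm (Fin 5), u ^ 4 = 1 → sign u = 1 → u * u = 1 := by decide +kernel
  exact fun u h => Subtype.ext (this u (congrArg Subtype.val h) u.2)

theorem a5_ex : ∃ u : A5, u * u = 1 ∧ u ≠ 1 :=
  ⟨⟨swap 0 1 * swap 2 3, mem_alternatingGroup.2 (by decide)⟩, by decide +kernel⟩

theorem simple_A5 : IsSimpleGroup A5 := alternatingGroup.isSimpleGroup (by simp)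

theorem simple_A6 : IsSimpleGroup A6 := alternatingGroup.isSimpleGroup (by simp)

/-- `(01)(23)` -/
def z6 : A6 := ⟨swap 0 1 * swap 2 3, mem_alternatingGroup.2 (by decide)⟩
/-- `(02)(13)` -/
def a6 : A6 := ⟨swap 0 2 * swap 1 3, mem_alternatingGroup.2 (by decide)⟩
/-- `(01)(45)` -/
def b6 : A6 := ⟨swap 0 1 * swap 4 5, mem_alternatingGroup.2 (by decide)⟩
/-- `(012)` -/
def c6 : A6 := ⟨swap 0 1 * swap 1 2, mem_alternatingGroup.2 (by decide)⟩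

theorem cent_z6 (y : A6) (h1 : y * z6 = z6 * y) (h2 : y * y = 1) (h3 : y ≠ 1) (h4 : y ≠ z6) :
    y = a6 ∨ y = a6 * z6 ∨ y = b6 ∨ y = b6 * z6 := by
  have : ∀ y : Perm (Fin 6), y * z6.1 = z6.1 * y → y * y = 1 → y ≠ 1 → y ≠ z6.1 → sign y = 1 →
    y = a6.1 ∨ y = a6.1 * z6.1 ∨ y = b6.1 ∨ y = b6.1 * z6.1 := by decide +kernel
  simp only [Subtype.ext_iff]
  exact this y (congrArg Subtype.val h1) (congrArg Subtype.val h2)
    (fun e => h3 (Subtype.ext e)) (fun e => h4 (Subtype.ext e)) y.2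

theorem cent_z6' (y : A6) (h2 : y * y = z6) : y = a6 * b6 ∨ y = (a6 * b6)⁻¹ := by
  have : ∀ y : Perm (Fin 6), y * y = z6.1 → sign y = 1 →
    y = a6.1 * b6.1 ∨ y = (a6.1 * b6.1)⁻¹ := by decide +kernel
  simp only [Subtype.ext_iff]
  exact this y (congrArg Subtype.val h2) y.2

theorem norm_K1 (y : A6) (h1 : y ^ 3 = 1) (h2 : y ≠ 1) (h3 : y * z6 * y⁻¹ * a6 = a6 * (y * z6 * y⁻¹))
    (h4 : y * z6 * y⁻¹ * z6 = z6 * (y * z6 * y⁻¹)) : (y : Perm (Fin 6)).IsThreeCycle := by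
  have : ∀ y : Perm (Fin 6), y ^ 3 = 1 → y ≠ 1 → y * z6.1 * y⁻¹ * a6.1 = a6.1 * (y * z6.1 * y⁻¹) →
    y * z6.1 * y⁻¹ * z6.1 = z6.1 * (y * z6.1 * y⁻¹) → y.support.card = 3 := by decide +kernel
  exact card_support_eq_three_iff.1 (this y (congrArg Subtype.val h1) (fun e => h2 (Subtype.ext e))
    (congrArg Subtype.val h3) (congrArg Subtype.val h4))

theorem conj_z6 {y : A6} (h : orderOf y = 2) : IsConj y z6 := by
  obtain ⟨k, hk⟩ := cycleType_prime_order (σ := (y : Perm (Fin 6))) (by rw [orderOf_coe, h]; norm_num)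
  have h1 := (y : Perm (Fin 6)).sum_cycleType_le
  have h2 := (y : Perm (Fin 6)).sign_of_cycleType
  rw [orderOf_coe, h] at hk
  rw [hk, Multiset.sum_replicate, smul_eq_mul, Fintype.card_fin] at h1
  rw [hk, mem_alternatingGroup.1 y.2] at h2
  have h3 : (z6 : Perm (Fin 6)).cycleType = Multiset.replicate 2 2 := by
    rw [z6, Equiv.Perm.Disjoint.cycleType_mul (by unfold Equiv.Perm.Disjoint; decide), isSwap_iff_cycleType.1 ⟨0, 1, by decide, rfl⟩,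
      isSwap_iff_cycleType.1 ⟨2, 3, by decide, rfl⟩]
    rfl
  have : k = 1 := by
    rcases k with _ | _ | _ | k
    · exact absurd h2 (by decide)
    · rfl
    · exact absurd h2 (by decide)
    · omega
  subst this
  exact (AltAut.isConj_of_odd_commute (isConj_iff_cycleType_eq.2 (h3.trans hk.symm))
    (w := swap 4 5) (by rw [mem_alternatingGroup]; decide) (by decide +kernel)).symm

end CfsgLib.Ord6
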