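import Mathlib
import Cfsg.Agent.S3703
import Cfsg.Agent.Lib.Core.MinNormal
import Cfsg.Agent.Lib.Char.Burnside

/-! Finite groups all of whose elements have order at most six: definitions and basic tools. -/

set_option autoImplicit false
set_option linter.unusedSectionVars false

namespace CfsgLib.Ord6

open Cfsg Subgroup

universe u

/-- `A₅` -/
abbrev A5 : Type := alternatingGroup (Fin 5)

/-- `A₆` -/
abbrev A6 : Type := alternatingGroup (Fin 6)

/-- All elements have order at most six. -/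
def Cl (G : Type*) [Group G] : Prop := ∀ g : G, orderOf g ≤ 6

/-- The simple members of the class. -/
def Sm (G : Type*) [Group G] : Prop := Nonempty (G ≃* A5) ∨ Nonempty (G ≃* A6)

/-- An extension of an elementary abelian 2-group by `A₅`. -/
def EA (G : Type*) [Group G] : Prop :=
  ∃ π : G →* A5, Function.Surjective π ∧ ∀ a, π a = 1 → a * a = 1

/-- The structure of a member of the class. -/
def ST (G : Type*) [Group G] : Prop :=
  Group.IsSolvable G ∨ EA G ∨ Nonempty (G ≃* Equiv.Perm (Fin 5)) ∨ Nonempty (G ≃* A6) ∨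
    Nonempty (G ≃* Equiv.Perm (Fin 6))

variable {G : Type*} [Group G] [Finite G] {x y : G}

theorem card_A5 : Nat.card A5 = 60 := by rw [nat_card_alternatingGroup]; simp [Nat.factorial]

theorem card_A6 : Nat.card A6 = 360 := by rw [nat_card_alternatingGroup]; simp [Nat.factorial]

/-- a fixed-point-free element: every element is a commutator -/
theorem fpf_surj {Q : Subgroup G} {f : G} (hn : ∀ q ∈ Q, f * q * f⁻¹ ∈ Q)
    (hf : ∀ q ∈ Q, f * q = q * f → q = 1) {w : G} (hw : w ∈ Q) :
    ∃ q ∈ Q, w = q⁻¹ * (f * q * f⁻¹) := by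
  let c : Q → Q := fun q => ⟨(q : G)⁻¹ * (f * q * f⁻¹), mul_mem (inv_mem q.2) (hn _ q.2)⟩
  have hc : Function.Injective c := fun a b e => by
    have e' : (a : G)⁻¹ * (f * a * f⁻¹) = (b : G)⁻¹ * (f * b * f⁻¹) := congrArg Subtype.val e
    have := hf (b * (a : G)⁻¹) (mul_mem b.2 (inv_mem a.2)) (by
      calc f * (b * (a : G)⁻¹) = b * ((b : G)⁻¹ * (f * b * f⁻¹)) * f * (a : G)⁻¹ := by group
        _ = _ := by rw [← e']; group)
    exact Subtype.ext (mul_inv_eq_one.1 this).symm
  obtain ⟨q, hq⟩ := Finite.injective_iff_surjective.1 hc ⟨w, hw⟩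
  exact ⟨q, q.2, (congrArg Subtype.val hq).symm⟩

namespace Cl

variable (h : Cl G)
include h

theorem of_inj {A : Type*} [Group A] (f : A →* G) (hf : Function.Injective f) : Cl A := fun a => by
  rw [← orderOf_injective f hf]; exact h _

theorem sub (H : Subgroup G) : Cl H := h.of_inj H.subtype H.subtype_injective

theorem of_surj {A : Type*} [Group A] (f : G →* A) (hf : Function.Surjective f) : Cl A := fun a => by
  obtain ⟨g, rfl⟩ := hf a
  exact (Nat.le_of_dvd (orderOf_pos g) (orderOf_map_dvd f g)).trans (h g)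

theorem of_equiv {A : Type*} [Group A] (e : G ≃* A) : Cl A := h.of_surj e.toMonoidHom e.surjective

theorem comm (hc : x * y = y * x) {r s : ℕ} (hr : r ∣ orderOf x) (hs : s ∣ orderOf y)
    (cop : r.Coprime s) : r * s ≤ 6 := by
  have o1 := orderOf_pow_orderOf_div (orderOf_pos x).ne' hr
  have o2 := orderOf_pow_orderOf_div (orderOf_pos y).ne' hs
  have := h (x ^ (orderOf x / r) * y ^ (orderOf y / s))
  rwa [(Commute.pow_pow hc _ _).orderOf_mul_eq_mul_orderOf_of_coprime (by rwa [o1, o2]), o1, o2] at this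

theorem le_five {p : ℕ} (hp : p.Prime) (hd : p ∣ Nat.card G) : p = 2 ∨ p = 3 ∨ p = 5 := by
  have := Fact.mk hp
  obtain ⟨g, hg⟩ := exists_prime_orderOf_dvd_card' p hd
  have h1 := h g
  have h2 := hp.two_le
  rw [hg] at h1
  interval_cases p <;> simp_all (config := {decide := true})

theorem not_dvd {p : ℕ} (hp : p.Prime) (h7 : 7 ≤ p) : ¬ p ∣ Nat.card G := fun e => by
  have := h.le_five hp e
  omega

/-- `x ^ n` has exponent `p` with `n p > 6` -/
theorem pow_eq_one {n p : ℕ} (hp : p.Prime) (hn : n ∣ orderOf x) (h6 : 6 < n * p)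
    (e : (x ^ n) ^ p = 1) : x ^ n = 1 := by
  by_contra h1
  have := Fact.mk hp
  have h2 := orderOf_eq_prime e h1
  have n0 : n ≠ 0 := by rintro rfl; simp at h6
  rw [orderOf_pow_of_dvd n0 hn] at h2
  have := Nat.mul_div_cancel' hn
  have := h x
  rw [h2] at *
  omega

theorem pow_sixty (x : G) : x ^ 60 = 1 := by
  have h1 := h x
  have h2 := orderOf_pos x
  refine orderOf_dvd_iff_pow_eq_one.1 ?_
  generalize orderOf x = n at *
  interval_cases n <;> norm_num

theorem pow_four {k : ℕ} (e : x ^ 2 ^ k = 1) : x ^ 4 = 1 := by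
  have h1 := orderOf_dvd_iff_pow_eq_one.2 e
  have h2 := orderOf_dvd_iff_pow_eq_one.2 (h.pow_sixty x)
  refine orderOf_dvd_iff_pow_eq_one.1 (Nat.Coprime.dvd_of_dvd_mul_right (m := 4) (n := 15) ?_ h2)
  exact Nat.Coprime.coprime_dvd_left h1 (Nat.Coprime.pow_left k (by norm_num))

theorem pow_four_of_mem {T : Subgroup G} (hT : IsPGroup 2 T) (hx : x ∈ T) : x ^ 4 = 1 := by
  obtain ⟨k, hk⟩ := hT ⟨x, hx⟩
  exact h.pow_four (congrArg Subtype.val hk)

/-- an element of order five centralizes no element whose order is divisible by two or three -/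
theorem five (hx : 5 ∣ orderOf x) (hc : x * y = y * x) : y ^ 5 = 1 := by
  have h1 := h y
  have h2 := orderOf_pos y
  have h3 := fun e => h.comm hc hx (s := 2) e (by norm_num)
  have h4 := fun e => h.comm hc hx (s := 3) e (by norm_num)
  refine orderOf_dvd_iff_pow_eq_one.1 ?_
  generalize orderOf y = n at *
  interval_cases n <;> simp_all

theorem five_two (hx : 5 ∣ orderOf x) (hc : x * y = y * x) {k : ℕ} (e : y ^ 2 ^ k = 1) : y = 1 := by
  have h1 := orderOf_dvd_iff_pow_eq_one.2 (h.five hx hc)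
  have h2 := orderOf_dvd_iff_pow_eq_one.2 e
  exact orderOf_eq_one_iff.1 (Nat.eq_one_of_dvd_coprimes (Nat.Coprime.pow_right k (by norm_num)) h1 h2)

theorem solvable (h5 : ¬ 5 ∣ Nat.card G) : Group.IsSolvable G := by
  refine Char.isSolvable_of_card_primeFactors_le_two
    ((Finset.card_le_card (t := {2, 3}) fun p hp => ?_).trans (by simp))
  have h1 := Nat.dvd_of_mem_primeFactors hp
  rcases h.le_five (Nat.prime_of_mem_primeFactors hp) h1 with rfl | rfl | rfl
  · simp
  · simp
  · exact absurd h1 h5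

theorem solvable_cent (hx : orderOf x = 2) : Group.IsSolvable (centralizer ({x} : Set G)) := by
  refine (h.sub _).solvable fun e => ?_
  have := Fact.mk Nat.prime_five
  obtain ⟨g, hg⟩ := exists_prime_orderOf_dvd_card' 5 e
  have := h.comm (mem_centralizer_singleton_iff.1 g.2) (r := 5) (s := 2) (by rw [orderOf_coe, hg])
    (by rw [hx]) (by norm_num)
  omega

end Cl

/-- A Frobenius section acting on an abelian normal subgroup. -/
theorem maz {L : Type*} [Group L] (π : G →* L) (hπ : Function.Surjective π) {V : Subgroup G}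
    [V.Normal] (hV : ∀ a ∈ V, ∀ b ∈ V, a * b = b * a) (hk : ∀ g, π g = 1 → ∀ v ∈ V, g * v = v * g)
    (F : Subgroup L) (s : G) (m : ℕ) (hF : ∀ f ∈ F, π s * f * (π s)⁻¹ ∈ F)
    (fpf : ∀ i, i < m → ∀ f ∈ F, f * π s ^ (i + 1) = π s ^ (i + 1) * f → f = 1)
    (cop : (Nat.card F).Coprime (Nat.card V))
    (hm : ∀ v ∈ V, ((List.range (m + 1)).map fun i => s ^ i * v * (s ^ i)⁻¹).prod = 1)
    {g : G} (hg : π g ∈ F) {v : G} (hv : v ∈ V) : g * v = v * g := by
  have : Finite L := Finite.of_surjective π hπ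
  let : CommGroup V := { (inferInstance : Group V) with
    mul_comm := fun a b => Subtype.ext (hV _ a.2 _ b.2) }
  have hB : π.ker ≤ (MulAut.conjNormal : G →* MulAut V).ker := fun g hg => MulEquiv.ext fun v =>
    Subtype.ext (mul_inv_eq_iff_eq_mul.2 (hk g hg v v.2))
  let A' : L →* MulAut V := π.liftOfSurjective hπ ⟨_, hB⟩
  let C : MulAut V →* Monoid.End V :=
    { toFun := fun g => g.toMonoidHom
      map_one' := rfl
      map_mul' := fun _ _ => rfl }
  let B : G →* Monoid.End V := C.comp MulAut.conjNormal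
  let A : L →* Monoid.End V := C.comp A'
  have hA : ∀ g, A (π g) = B g := fun g =>
    congrArg C (MonoidHom.liftOfRightInverse_comp_apply _ _ _ _ _)
  have := Agent.S3703.key A F (π s) m (fun i f hf => by
    induction i with
    | zero => simpa using hf
    | succ i ih => rw [pow_succ', mul_inv_rev, show ∀ a b c d e : L, a * b * c * (d * e) =
        a * (b * c * d) * e from fun _ _ _ _ _ => by group]; exact hF _ ih) fpf (fun x => by
    have h2 : ((List.range (m + 1)).map fun i => B (s ^ i) x).prod = 1 := Subtype.ext (by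
      rw [Subgroup.val_list_prod, List.map_map]; exact hm x x.2)
    rw [← h2, ← List.prod_toFinset _ List.nodup_range, List.toFinset_range]
    exact Finset.prod_congr rfl fun i _ => by rw [← map_pow, hA]) cop hg ⟨v, hv⟩
  rw [hA] at this
  exact mul_inv_eq_iff_eq_mul.1 (congrArg Subtype.val this)

theorem Cl.maz1 (h : Cl G) {L : Type*} [Group L] (π : G →* L) (hπ : Function.Surjective π)
    {V : Subgroup G} [hN : V.Normal] {p : ℕ} (hp : p.Prime) (hV : IsElementaryAbelian p V)
    (hk : ∀ g, π g = 1 → ∀ v ∈ V, g * v = v * g) (hk' : ∀ v ∈ V, π v = 1)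
    (F : Subgroup L) (s : G) (m : ℕ) (hF : ∀ f ∈ F, π s * f * (π s)⁻¹ ∈ F)
    (fpf : ∀ i, i < m → ∀ f ∈ F, f * π s ^ (i + 1) = π s ^ (i + 1) * f → f = 1)
    (cop : (Nat.card F).Coprime p) (ho : orderOf (π s) = m + 1) (hs : s ^ (m + 1) ∈ V)
    (h6 : 6 < (m + 1) * p) {g : G} (hg : π g ∈ F) {v : G} (hv : v ∈ V) : g * v = v * g := by
  have := Fact.mk hp
  obtain ⟨k, hk2⟩ := IsPGroup.iff_card.1 (Core.isElementaryAbelian_isPGroup hV)
  have key : ∀ v ∈ V, (v * s) ^ (m + 1) = 1 := fun v hv => by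
    refine h.pow_eq_one hp ?_ h6 (hV.2 _ ?_)
    · rw [← ho, ← one_mul (π s), ← hk' v hv, ← map_mul]; exact orderOf_map_dvd π _
    · rw [← QuotientGroup.eq_one_iff, QuotientGroup.mk_pow, QuotientGroup.mk_mul,
        (QuotientGroup.eq_one_iff v).2 hv, one_mul, ← QuotientGroup.mk_pow, QuotientGroup.eq_one_iff]
      exact hs
  refine maz π hπ (fun a ha b hb => have := hV.1; setLike_mul_comm ha hb) hk F s m hF fpf
    (hk2 ▸ cop.pow_right k) (fun v hv => ?_) hg hv
  have h1 := Agent.S3703.pow_mul_eq v s (m + 1)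
  rw [key v hv, show s ^ (m + 1) = 1 by simpa using key 1 (one_mem V), mul_one] at h1
  exact h1.symm

theorem maz2 {L : Type*} [Group L] (π : G →* L) (hπ : Function.Surjective π) {V : Subgroup G}
    [hN : V.Normal] (hV : ∀ a ∈ V, ∀ b ∈ V, a * b = b * a)
    (hk : ∀ g, π g = 1 → ∀ v ∈ V, g * v = v * g)
    (F : Subgroup L) (s : G) (m : ℕ) (hF : ∀ f ∈ F, π s * f * (π s)⁻¹ ∈ F)
    (fpf : ∀ i, i < m → ∀ f ∈ F, f * π s ^ (i + 1) = π s ^ (i + 1) * f → f = 1)
    (cop : (Nat.card F).Coprime (Nat.card V)) (ho : π s ^ (m + 1) = 1)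
    (hs : ∀ v ∈ V, s * v = v * s → v = 1)
    {g : G} (hg : π g ∈ F) {v : G} (hv : v ∈ V) : g * v = v * g := by
  refine maz π hπ hV hk F s m hF fpf cop (fun v hv => ?_) hg hv
  have hP : ∀ n, ((List.range n).map fun i => s ^ i * v * (s ^ i)⁻¹).prod ∈ V := fun n =>
    list_prod_mem fun x hx => by
      obtain ⟨i, -, rfl⟩ := List.mem_map.1 hx
      exact hN.conj_mem _ hv _
  have h1 := Agent.S3703.pow_mul_eq v s (m + 1)
  have h2 := hk (s ^ (m + 1)) (by rw [map_pow, ho])
  refine hs _ (hP _) ?_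
  have h3 := hP (m + 1)
  generalize ((List.range (m + 1)).map fun i => s ^ i * v * (s ^ i)⁻¹).prod = w at *
  have h4 : v * s * (w * s ^ (m + 1)) = w * s ^ (m + 1) * (v * s) := by
    rw [← h1, ← pow_succ, ← pow_succ']
  have h5 : v * (s * w) * s ^ (m + 1) = v * (w * s) * s ^ (m + 1) := by
    calc _ = w * (s ^ (m + 1) * v) * s := by rw [← mul_assoc w, mul_assoc _ v s, ← h4]; group
      _ = (w * v) * s * s ^ (m + 1) := by rw [h2 v hv]; group
      _ = _ := by rw [hV w h3 v hv]; group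
  exact mul_left_cancel (mul_right_cancel h5)

end CfsgLib.Ord6
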