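import Cfsg.Agent.Lib.Ord6.St
import Cfsg.Agent.Lib.BG.AmbHall
import Cfsg.Agent.Lib.Frob.Thompson
import Cfsg.Agent.Lib.Coprime.Generation
import Cfsg.Agent.Lib.TwoGrp.Pres
import Cfsg.Agent.S3361

/-! Solvable groups whose element orders are `1, …, 6`. -/

set_option autoImplicit false
set_option linter.unusedSectionVars false

namespace CfsgLib.Ord6

open Cfsg CfsgLib.BG Subgroup
open scoped MatrixGroups

variable {G : Type*} [Group G] [Finite G] {x y u f : G}

theorem not_sq_dvd {p : ℕ} (hp : p.Prime) {V : Subgroup G} [V.Normal] (V1 : V ≠ ⊥)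
    (cop : p.Coprime (Nat.card V)) (hf : ∀ x, orderOf x = p → ∀ v ∈ V, v * x = x * v → v = 1)
    (he : ∀ x : G, orderOf x ≠ p ^ 2) : ¬ p ^ 2 ∣ Nat.card G := fun e => by
  have := Fact.mk hp
  obtain ⟨A, hA⟩ := Sylow.exists_subgroup_card_pow_prime p e
  have := IsPGroup.isMulCommutative_of_card_eq_prime_sq hA
  obtain ⟨a, ha, a1, h⟩ := Coprime.exists_centralizer_ne_bot (A := A) (K := V) (fun hc => by
    obtain ⟨g, hg⟩ := IsCyclic.exists_ofOrder_eq_natCard (α := A)
    exact he g (by rw [orderOf_coe, hg, hA])) le_normalizer_of_normal (hA ▸ cop.pow_left 2) V1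
  refine h (Frob.fpf_iff.2 (hf a ?_))
  obtain ⟨i, hi, e⟩ := (Nat.dvd_prime_pow hp).1 (hA ▸ order_dvdG ha)
  interval_cases i
  · exact absurd (orderOf_eq_one_iff.1 e) a1
  · simpa using e
  · exact absurd e (he a)

theorem mem_three (h9 : ¬ 9 ∣ Nat.card G) (hx : orderOf x = 3) (hy : y ^ 3 = 1) (hc : y * x = x * y) :
    y = 1 ∨ y = x ∨ y = x⁻¹ := by
  have hx3 : x ^ 3 = 1 := hx ▸ pow_orderOf_eq_one x
  have t := fun {y : G} (hy : y ^ 3 = 1) =>
    Core.isElementaryAbelian_isPGroup (Core.isElementaryAbelian_zpowers hy)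
  obtain ⟨k, hk⟩ := pgroup_card Nat.prime_three (pgroupY (.inr (cents_norm (by
    rw [cent_zpowers]; exact zpowers_le.2 (mem_cent1.2 hc)))) (t hx3) (t hy))
  have h1 : k ≤ 1 := by_contra fun e => h9 (((pow_dvd_pow 3 (by omega : 2 ≤ k)).trans hk.symm.dvd).trans
    (card_subgroup_dvd_card _))
  have e := eq_of_le_card (le_sup_left : zpowers x ≤ zpowers x ⊔ zpowers y) (by
    rw [hk, Nat.card_zpowers, hx]; exact Nat.pow_le_pow_right (by norm_num) h1)
  obtain ⟨n, rfl⟩ := mem_powers_iff_mem_zpowers.2 (e.ge (mem_sup_right (mem_zpowers y)))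
  have := Nat.mod_lt n (by norm_num : 0 < 3)
  simp only
  rw [← pow_mod_orderOf, hx]
  interval_cases n % 3
  · simp
  · simp
  · exact .inr (.inr (eq_inv_of_mul_eq_one_left (by rw [← pow_succ, hx3])))

namespace Cl

variable (h : Cl G)
include h

theorem frobK (h5 : ¬ 5 ∣ Nat.card G) (h9 : ¬ 9 ∣ Nat.card G)
    (hu : ∀ x y : G, orderOf x = 2 → orderOf y = 2 → x = y) (hx : orderOf x = 3) (o4 : orderOf u = 4) :
    Nonempty (G ≃* QuaternionGroup 3) ∨ Nonempty (G ≃* SL(2, ZMod 3)) := by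
  have := Fact.mk Nat.prime_two
  have := Fact.mk Nat.prime_three
  have hx3 : x ^ 3 = 1 := hx ▸ pow_orderOf_eq_one x
  have o2 : orderOf (u ^ 2) = 2 := by rw [orderOf_pow_of_dvd two_ne_zero (by rw [o4]; norm_num), o4]
  obtain ⟨z, hz⟩ : ∃ z, z = u ^ 2 := ⟨_, rfl⟩
  rw [← hz] at o2
  have zc : ∀ g, Commute z g := fun g =>
    (mul_inv_eq_iff_eq_mul.1 (hu _ _ ((orderOf_conj g z).trans o2) o2)).symm
  have z2 : z ^ 2 = 1 := o2 ▸ pow_orderOf_eq_one z
  have o6 : orderOf (z * x) = 2 * 3 := by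
    rw [(zc x).orderOf_mul_eq_mul_orderOf_of_coprime (by rw [o2, hx]; norm_num), o2, hx]
  have e3 : (z * x) ^ 3 = z := by rw [(zc x).mul_pow, hx3, mul_one, pow_succ, z2, one_mul]
  have xm : x ∈ zpowers (z * x) := by
    have := mul_mem (inv_mem (npow_mem_zpowers (z * x) 3)) (mem_zpowers _)
    rwa [e3, inv_mul_cancel_left] at this
  have ac : ∀ c ∈ zpowers (z * x), c * x = x * c := fun c hc =>
    mem_cent1.1 (zpowers_le.2 (mem_cent1.2 ((zc x).mul_left (Commute.refl x)).eq) hc)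
  have hC : ∀ c, c * x = x * c → c ∈ zpowers (z * x) := fun c hc => by
    have c6 : c ^ 6 = 1 := by
      have h1 := h c
      have h2 := orderOf_pos c
      have h3 := fun e => h.comm hc (r := 4) e hx.symm.dvd (by norm_num)
      have h4 : ¬ 5 ∣ orderOf c := fun e => h5 (e.trans (orderOf_dvd_natCard c))
      refine orderOf_dvd_iff_pow_eq_one.1 ?_
      generalize orderOf c = n at *
      interval_cases n <;> simp_all
    have c3 : c ^ 3 ∈ zpowers (z * x) := by
      by_cases e : c ^ 3 = 1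
      · rw [e]; exact one_mem _
      · rw [hu _ _ (orderOf_eq_prime (by rw [← pow_mul, c6]) e) o2]; exact ⟨(3 : ℕ), (zpow_natCast _ _).trans e3⟩
    rw [pow_succ] at c3
    refine (mul_mem_cancel_left ?_).1 c3
    rcases mem_three h9 hx (y := c ^ 2) (by rw [← pow_mul, c6]) (Commute.pow_left hc 2).eq
      with e | e | e <;> rw [e]
    exacts [one_mem _, xm, inv_mem xm]
  by_cases hn : ∀ y : G, y ^ 3 = 1 → y * x = x * y
  · have k : ∀ g, g * x = x * g ∨ g * x * g⁻¹ = x⁻¹ := fun g => by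
      have e : (g * x * g⁻¹) ^ 3 = 1 := by rw [conj_pow, hx3]; simp
      rcases mem_three h9 hx e (hn _ e) with e | e | e
      · rw [conj_eq_one_iff.1 e] at hx; simp at hx
      · exact .inl (mul_inv_eq_iff_eq_mul.1 e)
      · exact .inr e
    have n : ¬ u * x = x * u := fun e => by
      have := h.comm e o4.symm.dvd hx.symm.dvd (by norm_num)
      omega
    have hux := (k u).resolve_left n
    obtain ⟨e⟩ := TwoGrp.nonempty_mulEquiv_quaternion (Q := ⊤) (b := u) o6 (by rw [e3, hz, pow_two])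
      (by rw [← conj_mul, hux, ← (zc u).eq, mul_inv_cancel_right, ← (zc x).eq.symm, mul_inv_rev,
        inv_eq_of_mul_eq_one_right ((pow_two z).symm.trans z2)]) (fun e => n (ac u e))
      fun g => iff_of_true trivial (by
        rcases k g with e | e
        · obtain ⟨i, hi⟩ := hC g e
          exact ⟨i, .inl hi.symm⟩
        · obtain ⟨i, hi⟩ := hC (g * u⁻¹) (by
            calc _ = g * (u⁻¹ * (u * x * u⁻¹)⁻¹ * u) * u⁻¹ := by rw [hux]; group
              _ = (g * x * g⁻¹)⁻¹ * (g * u⁻¹) := by group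
              _ = _ := by rw [e, inv_inv])
          exact ⟨i, .inr (by simp only at hi; rw [hi, inv_mul_cancel_right])⟩)
    exact .inl ⟨topEquiv.symm.trans e⟩
  push Not at hn
  obtain ⟨y, y3, hy⟩ := hn
  have k : ∀ M : Subgroup G, y * y ∈ M → y ∈ M := fun M e => by
    have := mul_mem e e
    rwa [show y * y * (y * y) = y ^ 3 * y by simp [pow_succ, mul_assoc], y3, one_mul] at this
  have k2 : ∀ M : Subgroup G, Nat.card M = 12 → x ∈ M → y ∉ M := fun M hM xM yM => by
    obtain ⟨t, ht, o⟩ := Cauchy (H := M) Nat.prime_two (by rw [hM]; norm_num)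
    have h1 : zpowers (z * x) ≤ M := zpowers_le.2 (mul_mem (hu _ _ o o2 ▸ ht) xM)
    have h2 := Lagrange h1
    rw [Nat.card_zpowers, o6, hM] at h2
    exact hy (ac y (k _ (mul_self_mem_of_index_two (H := (zpowers (z * x)).subgroupOf M)
      (by change Subgroup.relIndex _ _ = 2; omega) ⟨y, yM⟩)))
  obtain ⟨T⟩ : Nonempty (Sylow 2 G) := inferInstance
  have hT : Nat.card T ∣ 8 := by
    rcases Frob.cyclic_or_quaternion_of_forall_mem_zpowers T.isPGroup' (fun x y hx hy => by
      rw [Subtype.ext (hu x y (by rwa [orderOf_coe]) (by rwa [orderOf_coe]))]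
      exact mem_zpowers y) with e | ⟨-, n, hn, ⟨e⟩⟩
    · obtain ⟨g, hg⟩ := IsCyclic.exists_ofOrder_eq_natCard (α := T)
      exact hg ▸ (orderOf_dvd_of_pow_eq_one (Subtype.ext
        (h.pow_four_of_mem T.isPGroup' g.2))).trans (by norm_num)
    · have h1 := (h.sub _).of_equiv e (QuaternionGroup.a 1)
      rw [QuaternionGroup.orderOf_a_one] at h1
      obtain rfl : n = 1 := by
        by_contra hh
        have := Nat.pow_le_pow_right two_pos (by omega : 2 ≤ n)
        omega
      rw [Nat.card_congr e.toEquiv, Nat.card_eq_fintype_card, QuaternionGroup.card]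
      norm_num
  have hI : (T : Subgroup G).index ∣ 3 := by
    have h1 := (T : Subgroup G).index_dvd_card
    have h2 := T.not_dvd_index
    have h0 : (T : Subgroup G).index ≠ 0 := index_ne_zero_of_finite
    generalize (T : Subgroup G).index = n at *
    have k : ∀ m, m ∣ n → ¬ 3 ∣ m → m = 1 := fun m hm h3 => by_contra fun e => by
      obtain ⟨p, hp, e⟩ := Nat.exists_prime_and_dvd e
      rcases h.le_five hp ((e.trans hm).trans h1) with rfl | rfl | rfl
      exacts [h2 (e.trans hm), h3 e, h5 ((e.trans hm).trans h1)]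
    by_cases h3 : 3 ∣ n
    · obtain ⟨m, rfl⟩ := h3
      rw [k m (dvd_mul_left _ _) fun e => h9 ((Nat.mul_dvd_mul_left 3 e).trans h1)]
    · rw [k n dvd_rfl h3]; norm_num
  have h24 : Nat.card G ∣ 24 := (T : Subgroup G).card_mul_index ▸ Nat.mul_dvd_mul hT hI
  have h12 : 12 ∣ Nat.card G := Nat.Coprime.mul_dvd_of_dvd_of_dvd (by norm_num : Nat.Coprime 4 3)
    (o4 ▸ orderOf_dvd_natCard u) (hx ▸ orderOf_dvd_natCard x)
  have h1 := Nat.le_of_dvd (by norm_num) h24
  have h2 : Nat.card G ≠ 12 := fun e => k2 ⊤ (by rwa [card_top]) trivial trivial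
  have h3 : Nat.card G = 24 := by have := Nat.card_pos (α := G); omega
  refine .inr (Agent.S3361.sl23 h3 hu fun ⟨M, hM⟩ => k2 M ?_ ?_ (k M (mul_self_mem_of_index_two hM y)))
  · have := M.card_mul_index; rw [hM] at this; omega
  · have := mul_mem (mul_self_mem_of_index_two hM x) (mul_self_mem_of_index_two hM x)
    rwa [show x * x * (x * x) = x ^ 3 * x by simp [pow_succ, mul_assoc], hx3, one_mul] at this

theorem pow_five (hx : x ∈ pCore 5 G) : x ^ 5 = 1 := by
  obtain ⟨k, hk⟩ := Core.isPGroup_pCore 5 G ⟨x, hx⟩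
  refine orderOf_dvd_iff_pow_eq_one.1 (Nat.Coprime.dvd_of_dvd_mul_right (m := 5) (n := 12)
    (Nat.Coprime.coprime_dvd_left (orderOf_dvd_of_pow_eq_one (congrArg Subtype.val hk))
      (Nat.Coprime.pow_left k (by norm_num))) (orderOf_dvd_of_pow_eq_one (h.pow_sixty x)))

theorem caseA (N1 : pCore 5 G ≠ ⊥) (hx : orderOf x = 3) (o4 : orderOf u = 4) :
    ∃ (N : Subgroup G) (_ : N.Normal), IsElementaryAbelian 5 N ∧
      (Nonempty (G ⧸ N ≃* QuaternionGroup 3) ∨ Nonempty (G ⧸ N ≃* SL(2, ZMod 3))) := by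
  have := Core.pCore_characteristic 5 G
  have := Fact.mk Nat.prime_five
  have := Fact.mk Nat.prime_three
  have := Fact.mk Nat.prime_two
  have N5 := fun x => h.pow_five (x := x)
  have mx : ∀ M : Subgroup G, M.Normal → IsPGroup 5 M → M ≤ pCore 5 G := fun M _ => Core.le_pCore
  generalize pCore 5 G = N at *
  have fp : ∀ x, ∀ v ∈ N, v * x = x * v → v = 1 ∨ x ^ 5 = 1 := fun x v hv e =>
    or_iff_not_imp_left.2 fun v1 => h.five (orderOf_eq_prime (N5 v hv) v1).symm.dvd e
  have fp' : ∀ x r, orderOf x = r → ¬ r ∣ 5 → ∀ v ∈ N, v * x = x * v → v = 1 := fun x r hr h5 v hv e =>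
    (fp x v hv e).resolve_right fun e => h5 (hr ▸ orderOf_dvd_of_pow_eq_one e)
  have inv : ∀ z, orderOf z = 2 → ∀ v ∈ N, z * v * z⁻¹ = v⁻¹ := fun z hz v hv =>
    Frob.conj_eq_inv_of_fpf (le_normalizer_of_normal (mem_top z))
      (Frob.fpf_iff.2 (fp' z 2 hz (by norm_num))) (by
        rw [← pow_two, ← hz, pow_orderOf_eq_one]; exact one_mem _) hv
  have o2 : orderOf (u ^ 2) = 2 := by rw [orderOf_pow_of_dvd two_ne_zero (by rw [o4]; norm_num), o4]
  obtain ⟨v, hv, v1⟩ := exists_ne_one_of_ne_bot N1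
  have hC : 𝒞(N) ≤ N := mx _ inferInstance (Core.isPGroup_of_forall_pow_eq_one fun c hc =>
    (fp c v hv (hc v hv)).resolve_left v1)
  let ρ := QuotientGroup.mk' N
  have hρ : Function.Surjective ρ := QuotientGroup.mk'_surjective N
  have ord : ∀ g : G, ¬ 5 ∣ orderOf g → orderOf (ρ g) = orderOf g := fun g h5 =>
    Nat.dvd_antisymm (orderOf_map_dvd ρ g) ((Nat.prime_five.coprime_iff_not_dvd.2 h5).symm.dvd_of_dvd_mul_right
      (orderOf_dvd_of_pow_eq_one (by
        rw [pow_mul]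
        exact N5 _ ((QuotientGroup.eq_one_iff _).1 (by
          change ρ _ = 1; rw [map_pow, pow_orderOf_eq_one])))))
  have hu : ∀ x y : G ⧸ N, orderOf x = 2 → orderOf y = 2 → x = y := fun x y hx hy => by
    have k : ∀ g, orderOf (ρ g) = 2 → orderOf g = 2 := fun g hg => by
      rw [← ord g fun e => ?_, hg]
      have := h.comm rfl (hg ▸ orderOf_map_dvd ρ g) e (by norm_num)
      omega
    obtain ⟨x, rfl⟩ := hρ x
    obtain ⟨y, rfl⟩ := hρ y
    refine QuotientGroup.eq.2 (hC fun w hw => ?_)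
    calc _ = x⁻¹ * (x * w * x⁻¹) * y := by group
      _ = x⁻¹ * (y * w * y⁻¹) * y := by rw [inv x (k x hx) w hw, inv y (k y hy) w hw]
      _ = _ := by group
  have hK := h.of_surj ρ hρ
  refine ⟨N, inferInstance, ⟨Frob.isMulCommutative_of_conj_eq_inv (inv _ o2), N5⟩,
    hK.frobK (fun e => ?_) (fun e => ?_) hu (x := ρ x) (u := ρ u) (by rw [ord, hx]; rw [hx]; norm_num)
      (by rw [ord, o4]; rw [o4]; norm_num)⟩
  · obtain ⟨f, hf⟩ := exists_prime_orderOf_dvd_card' 5 e
    have o : orderOf (ρ (u ^ 2)) = 2 := by rw [ord, o2]; rw [o2]; norm_num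
    have := hK.comm (mul_inv_eq_iff_eq_mul.1 (hu _ _ ((orderOf_conj f _).trans o) o)) hf.symm.dvd
      o.symm.dvd (by norm_num)
    omega
  · obtain ⟨k, hk⟩ := pgroup_card Nat.prime_five (Core.isPGroup_of_forall_pow_eq_one N5)
    exact not_sq_dvd Nat.prime_three N1 (hk ▸ Nat.Coprime.pow_right k (by norm_num))
      (fun x hx => fp' x 3 hx (by norm_num)) (fun x e => by have := h x; omega)
      (e.trans (card_dvd_of_surjective ρ hρ))

theorem caseB [Group.IsSolvable G] (N1 : pCore 5 G = ⊥) (hx : orderOf x = 3) (o4 : orderOf u = 4)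
    (o5 : orderOf f = 5) : False := by
  have := Core.pPrimeCore_characteristic 5 G
  have := Fact.mk Nat.prime_five
  have := Fact.mk Nat.prime_three
  have F5 := Core.not_dvd_card_pPrimeCore Nat.prime_five G
  have hq := Core.pPrimeCore_quotient_pPrimeCore 5 G
  have mx : ∀ {L : Type _} [Group L] [Finite L] (M : Subgroup L) [M.Normal] {p : ℕ}, p.Prime →
      IsElementaryAbelian p M → p ≠ 5 → M ≤ pPrimeCore 5 L := fun M _ p hp hM p5 => by
    obtain ⟨k, hk⟩ := pgroup_card hp (Core.isElementaryAbelian_isPGroup hM)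
    exact Core.le_pPrimeCore (hk ▸ ((Nat.coprime_primes hp Nat.prime_five).2 p5).pow_left k)
  have : Nontrivial G := ⟨x, 1, fun e => by simp [e] at hx⟩
  have F1 : pPrimeCore 5 G ≠ ⊥ := by
    obtain ⟨p, M, hp, _, M1, hM, -⟩ := Core.exists_elementaryAbelian_minimal_normal G
    refine subG1_contra (mx M hp hM ?_) M1
    rintro rfl
    exact M1 (eq_bot_iff.2 (N1 ▸ Core.le_pCore (Core.isElementaryAbelian_isPGroup hM)))
  have fp : ∀ f, 5 ∣ orderOf f → ∀ v ∈ pPrimeCore 5 G, v * f = f * v → v = 1 := fun f hf v hv e =>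
    by_contra fun v1 => F5 ((orderOf_eq_prime (h.five hf e.symm) v1).symm.dvd.trans (order_dvdG hv))
  have nil := Frob.isNilpotent_of_fpf (le_normalizer_of_normal (mem_top f))
    (Frob.fpf_iff.2 (fp f o5.symm.dvd)) Nat.prime_five (by rw [← o5, pow_orderOf_eq_one]; exact one_mem _)
  have h25 := not_sq_dvd Nat.prime_five F1 (Nat.prime_five.coprime_iff_not_dvd.2 F5)
    (fun f hf => fp f hf.symm.dvd) (fun x e => by have := h x; omega)
  let ρ := QuotientGroup.mk' (pPrimeCore 5 G)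
  have hρ : Function.Surjective ρ := QuotientGroup.mk'_surjective _
  have hK := h.of_surj ρ hρ
  have : Nontrivial (G ⧸ pPrimeCore 5 G) := ⟨ρ f, 1, fun e =>
    F5 (o5.symm.dvd.trans (order_dvdG ((QuotientGroup.eq_one_iff f).1 e)))⟩
  obtain ⟨p, W, hp, _, W1, hW, -⟩ := Core.exists_elementaryAbelian_minimal_normal (G ⧸ pPrimeCore 5 G)
  obtain rfl : p = 5 := by_contra fun e => W1 (eq_bot_iff.2 (hq ▸ mx W hp hW e))
  have fW : ∀ y, ¬ 5 ∣ orderOf y → y ≠ 1 → ∀ w ∈ W, w * y = y * w → w = 1 := fun y h5 y1 w hw e =>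
    by_contra fun w1 => h5 (orderOf_eq_prime
      (hK.five (orderOf_eq_prime (hW.2 w hw) w1).symm.dvd e) y1).symm.dvd
  have c5 : Nat.card W = 5 := by
    obtain ⟨k, hk⟩ := pgroup_card hp (Core.isElementaryAbelian_isPGroup hW)
    have h1 := cardG_gt1.2 W1
    have h2 : k < 2 := by_contra fun e => h25 (((pow_dvd_pow 5 (by omega)).trans hk.symm.dvd).trans
      ((card_subgroup_dvd_card W).trans (card_dvd_of_surjective ρ hρ)))
    rw [hk] at h1 ⊢
    interval_cases k <;> simp at h1 ⊢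
  have xF : x ∈ pPrimeCore 5 G := by_contra fun e => by
    have o3 : orderOf (ρ x) = 3 := orderOf_eq_prime (by rw [← map_pow, ← hx, pow_orderOf_eq_one, map_one])
      (mt (QuotientGroup.eq_one_iff x).1 e)
    have := Frob.card_modEq_one_of_fpf (K := W) (H := zpowers (ρ x)) le_normalizer_of_normal
      fun y hy y1 => Frob.fpf_iff.2 (fW y (fun e => by
        have := e.trans (order_dvdG hy)
        rw [Nat.card_zpowers, o3] at this
        norm_num at this) y1)
    rw [c5, Nat.card_zpowers, o3] at this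
    exact absurd this (by decide)
  have := Core.pCore_characteristic 3 G
  obtain ⟨V, _, V1, hV, hmin⟩ := Core.exists_minimal_normal_le (K := pCore 3 G ⊓ pPrimeCore 5 G)
    (subG1_contra (le_inf (Core.le_pCore_of_le_fittingSubgroup
      ((zpowers_le.2 xF).trans (Core.le_fittingSubgroup nil)) (pgroup_of_card_prime
      ((Nat.card_zpowers x).trans hx))) (zpowers_le.2 xF)) (by
      rw [Ne, zpowers_eq_bot]; rintro rfl; simp at hx))
  have hc := Core.le_centralizer_of_minimal_normal_of_isNilpotent (K := pPrimeCore 5 G) hmin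
  have VF := hV.trans inf_le_right
  obtain ⟨m, hm⟩ := Nat.exists_eq_succ_of_ne_zero (orderOf_pos (ρ u)).ne'
  obtain ⟨w, hw, w1⟩ := exists_ne_one_of_ne_bot W1
  obtain ⟨w, rfl⟩ := hρ w
  obtain ⟨v, hv, v1⟩ := exists_ne_one_of_ne_bot V1
  refine v1 (fp w (orderOf_eq_prime (hW.2 _ hw) w1 ▸ orderOf_map_dvd ρ w) v (VF hv)
    (maz2 ρ hρ (fun a ha b hb => hc (VF hb) a ha)
      (fun g hg v hv => (hc ((QuotientGroup.eq_one_iff g).1 hg) v hv).symm) W u m
      (fun f hf => Normal.conj_mem ‹_› f hf _) (fun i hi => fW _ (fun e => ?_)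
        (pow_ne_one_of_lt_orderOf (by omega) (by omega))) ?_ (orderOf_dvd_iff_pow_eq_one.1 hm.dvd)
      (fun v hv e => by_contra fun v1 => ?_) hw hv).symm)
  · have := (e.trans (orderOf_pow_dvd _)).trans (orderOf_map_dvd ρ u)
    rw [o4] at this
    norm_num at this
  · rw [c5]; exact Nat.prime_five.coprime_iff_not_dvd.2 fun e => F5 (e.trans (cardSg VF))
  · obtain ⟨k, hk⟩ := (IsPGroup.iff_orderOf.1 (Core.isPGroup_pCore 3 G)) ⟨v, (hV hv).1⟩
    rw [orderOf_mk] at hk
    have := h.comm e o4.symm.dvd (s := 3) (hk ▸ dvd_pow_self 3 fun e => v1 (by simpa [e] using hk))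
      (by norm_num)
    omega

end Cl

end CfsgLib.Ord6
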