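import Cfsg.Agent.Lib.Ord6.St
import Cfsg.Agent.Lib.BG.Quo
import Cfsg.Agent.Lib.BG.AmbHall
import Cfsg.Agent.Lib.Frob.FPF
import Cfsg.Agent.Lib.Coprime.Generation
import Cfsg.Agent.Lib.Sect.Tools
import Cfsg.Agent.S1174
import Cfsg.Agent.S1225

/-! Groups without elements of order greater than six: the non-solvable 2-local subgroups. -/

set_option autoImplicit false
set_option linter.unusedSectionVars false

namespace CfsgLib.Ord6

open Cfsg CfsgLib.BG Subgroup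

universe u

variable {G : Type*} [Group G] [Finite G] {H Q A B R T : Subgroup G} {a b g q : G}

/-- A simple member of the class whose proper subgroups have known structure. -/
structure Min (G : Type*) [Group G] : Prop where
  cl : Cl G
  simple : IsSimpleGroup G
  ncomm : ¬ IsMulCommutative G
  st : ∀ H : Subgroup G, H ≠ ⊤ → ST H

/-- `H = N(Q)` is an extension of the elementary abelian group `Q` by `A₅` -/
structure Par (H Q : Subgroup G) : Prop where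
  norm : 𝒩(Q) = H
  cent : 𝒞(Q) = Q
  exp : ∀ a ∈ Q, a * a = 1
  ne : Q ≠ ⊥
  four : ∀ A ≤ H, IsPGroup 2 A → Q.relIndex A ≤ 4
  sq : ∀ a ∈ H, a ^ 4 = 1 → a * a ∈ Q
  dih : ∀ a ∈ H, a ∉ Q → a * a ∈ Q → ∃ f ∈ H, ∃ q ∈ Q, orderOf f = 5 ∧
    q * a * f * (q * a)⁻¹ = f⁻¹ ∧ q * a * (q * a) = 1
  ex : ∃ a ∈ H, a ∉ Q ∧ a * a ∈ Q
  ns : ¬ Group.IsSolvable H

omit [Finite G] in
theorem two_of_sq (h : ∀ a ∈ A, a * a = 1) : IsPGroup 2 A :=
  Core.isPGroup_of_forall_pow_eq_one fun a ha => by rw [pow_two, h a ha]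

omit [Finite G] in
theorem sq_cj (h : ∀ a ∈ A, a * a = 1) : ∀ a ∈ cj g A, a * a = 1 := fun a ha => by
  obtain ⟨b, hb, rfl⟩ := mem_cj'.1 ha
  rw [conj_mul, h b hb, mul_one, mul_inv_cancel]

theorem Min.not_solvable (h : Min G) : ¬ Group.IsSolvable G := fun hs =>
  have := h.simple
  h.ncomm ⟨⟨IsSimpleGroup.comm_iff_isSolvable.2 hs⟩⟩

theorem Min.norm_ne_top (h : Min G) (h1 : R ≠ ⊥) (hR : IsPGroup 2 R) : 𝒩(R) ≠ ⊤ := fun e => by
  have := h.simple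
  have := pgroup_sol Nat.prime_two hR
  obtain rfl := (normalizer_eq_top_iff.1 e).eq_bot_or_eq_top.resolve_left h1
  exact h.not_solvable (Group.isSolvable_of_surjective (f := (⊤ : Subgroup G).subtype)
    fun g => ⟨⟨g, trivial⟩, rfl⟩)

theorem Min.pre (h : Min G) (hR : IsPGroup 2 R) (R1 : R ≠ ⊥) (hns : ¬ Group.IsSolvable 𝒩(R)) :
    ∃ π : 𝒩(R) →* A5, Function.Surjective π ∧ (∀ a ∈ mker π, a * a = 1) ∧ R ≤ mker π ∧
      𝒞(mker π) = mker π := by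
  have k : ∀ {L : Type} [Group L] (π : 𝒩(R) →* L), Function.Surjective π → P5 L → ∀ N, N ⊲ 𝒩(R) →
      ¬ 5 ∣ Nat.card N → N ≤ mker π := fun π hπ h5 N hN h => by
    refine (mim_eq_bot_iff π hN.le).1 (by_contra fun e => h ((h5 _ ?_ e).trans (card_mim_dvd π N)))
    refine normalizer_eq_top_iff.1 (top_le_iff.1 ?_)
    rw [← MonoidHom.range_eq_top.2 hπ, ← mim_dom]
    exact mim_norm π hN.norm
  have R5 : ¬ 5 ∣ Nat.card R := fun e =>
    absurd (pgroup_prime_eq Nat.prime_two Nat.prime_five hR e) (by norm_num)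
  have k2 : ∀ {L : Type} [Group L], 𝒩(R) ≃* L → P5 L → False := fun e h5 =>
    R1 (eq_bot_iff.2 fun a ha => by
      obtain ⟨h1, h2⟩ := (mem_mker _).1 (k e.toMonoidHom e.surjective h5 R (normalIn_norm R) R5 ha)
      rw [pf_of_mem _ h1] at h2
      exact congrArg Subtype.val ((map_eq_one_iff _ e.injective).1 h2))
  rcases h.st _ (h.norm_ne_top R1 hR) with e | ⟨π, hπ, hk⟩ | ⟨⟨e⟩⟩ | ⟨⟨e⟩⟩ | ⟨⟨e⟩⟩
  · exact absurd e hns
  · have h1 : ∀ a ∈ mker π, a * a = 1 := by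
      rintro _ ⟨a, ha, rfl⟩
      exact congrArg Subtype.val (hk a ha)
    have h2 := k π hπ p5_A5 R (normalIn_norm R) R5
    have h3 := (centS h2).trans (cent_sub R)
    refine ⟨π, hπ, h1, h2, le_antisymm (k π hπ p5_A5 _
      ⟨h3, norms_cent (dom_le_normalizer_mker π)⟩ fun e => ?_) fun a ha b hb =>
        comm_of_sq (h1 b hb) (h1 a ha) (h1 _ (mul_mem hb ha))⟩
    obtain ⟨f, hf, o5⟩ := Cauchy Nat.prime_five e
    obtain ⟨r, hr, r1⟩ := exists_ne_one_of_ne_bot R1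
    exact r1 (h.cl.fpf5 hR o5.symm.dvd r hr (hf r (h2 hr)).symm)
  exacts [(k2 e p5_S5).elim, (k2 e p5_A6).elim, (k2 e p5_S6).elim]

theorem Min.par (h : Min G) (hR : IsPGroup 2 R) (R1 : R ≠ ⊥) (hns : ¬ Group.IsSolvable 𝒩(R)) :
    ∃ Q : Subgroup G, Par 𝒩(Q) Q := by
  obtain ⟨π₀, -, h1, h2, h3⟩ := h.pre hR R1 hns
  have h4 := dom_le_normalizer_mker π₀
  generalize mker π₀ = Q at *
  have Q1 : Q ≠ ⊥ := subG1_contra h2 R1
  have ns : ¬ Group.IsSolvable 𝒩(Q) := fun e => hns (solvableS h4 e)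
  obtain ⟨π, hπ, -, k2, k3⟩ := h.pre (two_of_sq h1) Q1 ns
  have e : mker π = Q := le_antisymm (k3.ge.trans ((centS k2).trans h3.le)) k2
  have hk : ∀ a : 𝒩(Q), π a = 1 ↔ (a : G) ∈ Q := fun a => by
    rw [← pf_coe, pf_eq_one_iff π a.2, e]
  refine ⟨Q, rfl, h3, h1, Q1, fun A hA h2 => ?_, fun a ha h4 => ?_, fun a ha aQ a2 => ?_, ?_, ns⟩
  · rw [← e, ← card_mim π hA]
    obtain ⟨k, hk⟩ := pgroup_card Nat.prime_two (mim_isPGroup π h2)
    have := card_subgroup_dvd_card (mim π A)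
    rw [card_A5, hk] at this
    exact hk ▸ Nat.le_of_dvd (by norm_num) (Nat.Coprime.dvd_of_dvd_mul_right (m := 4) (n := 15)
      (Nat.Coprime.pow_left k (by norm_num)) this)
  · exact (hk (⟨a, ha⟩ * ⟨a, ha⟩)).1 (by
      rw [map_mul]; exact a5_four _ (by rw [← map_pow, show (⟨a, ha⟩ : 𝒩(Q)) ^ 4 = 1 from
        Subtype.ext h4, map_one]))
  · obtain ⟨f, q, o5, hq, e1, e2⟩ := (h.cl.sub _).d10 π hπ (two_of_sq fun a ha =>
      Subtype.ext (h1 a ((hk a).1 ha))) (u := ⟨a, ha⟩) (by rw [← map_mul]; exact (hk _).2 a2)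
      (mt (hk _).1 aQ)
    exact ⟨f, f.2, q, (hk q).1 hq, by rw [orderOf_coe, o5], congrArg Subtype.val e1,
      congrArg Subtype.val e2⟩
  · obtain ⟨u, u2, u1⟩ := a5_ex
    obtain ⟨u, rfl⟩ := hπ u
    exact ⟨u, u.2, mt (hk u).2 u1, (hk (u * u)).1 (by rw [map_mul, u2])⟩

/-- a hyperplane centralized modulo `O₂` -/
theorem hyper [Group.IsSolvable G] (h2 : ∀ a ∈ Q, a * a = 1) (h : ¬ Q ≤ pCore 2 G) :
    ∃ B ≤ Q, B.relIndex Q = 2 ∧ Q ⊓ pCore 2 G ≤ B ∧ ∃ a ∈ Q, ∃ y : G,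
      (∀ b ∈ B, y * b * y⁻¹ * b⁻¹ ∈ pCore 2 G) ∧ (a * (y * a * y⁻¹)) ^ 2 ∉ pCore 2 G := by
  have := Core.pCore_characteristic 2 G
  have := Fact.mk Nat.prime_two
  let ρ := QuotientGroup.mk' (pCore 2 G)
  have hk : ∀ a, ρ a = 1 ↔ a ∈ pCore 2 G := QuotientGroup.eq_one_iff
  have hF := Core.fittingSubgroup_normal (G ⧸ pCore 2 G)
  have hc := Core.centralizer_fittingSubgroup_le (G := G ⧸ pCore 2 G)
  have odd : ∀ x ∈ fittingSubgroup (G ⧸ pCore 2 G), x ^ 2 = 1 → x = 1 := fun x hx e => by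
    have := Core.le_pCore_of_le_fittingSubgroup (zpowers_le.2 hx)
      (Core.isElementaryAbelian_isPGroup (Core.isElementaryAbelian_zpowers e))
    rwa [Core.pCore_quotient_pCore, le_bot_iff, zpowers_eq_bot] at this
  generalize fittingSubgroup (G ⧸ pCore 2 G) = F at *
  have sq : ∀ a ∈ Q.map ρ, a * a = 1 := by
    rintro _ ⟨a, ha, rfl⟩
    rw [← map_mul, h2 a ha, map_one]
  have : IsMulCommutative (Q.map ρ) := ⟨⟨fun a b => Subtype.ext
    (comm_of_sq (sq _ a.2) (sq _ b.2) (sq _ (mul_mem a.2 b.2)))⟩⟩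
  by_contra! hcon
  refine h fun a ha => (hk a).1 (odd _ (hc fun x hx => ?_) (by rw [pow_two, sq _ (mem_map_of_mem _ ha)]))
  refine (Coprime.le_of_forall_hyperplane (A := Q.map ρ) (K := F) (H := 𝒞(Q.map ρ)) Nat.prime_two
    (fun a ha => by rw [pow_two, sq a ha]) (fun e => h fun a ha => (hk a).1 (e.le (mem_map_of_mem _ ha)))
    le_normalizer_of_normal ?_ (fun B hB hi y hy => ?_) hx _ (mem_map_of_mem _ ha)).symm
  · obtain ⟨k, hk⟩ := pgroup_card Nat.prime_two (two_of_sq sq)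
    refine hk ▸ Nat.Coprime.pow_left k (Nat.prime_two.coprime_iff_not_dvd.2 fun e => ?_)
    obtain ⟨x, hx, o⟩ := Cauchy Nat.prime_two e
    rw [odd x hx (orderOf_dvd_iff_pow_eq_one.1 o.dvd)] at o
    simp at o
  obtain ⟨y, rfl⟩ : ∃ z, ρ z = y := QuotientGroup.mk'_surjective _ y
  rintro _ ⟨a, ha, rfl⟩
  have h3 := hcon (B.comap ρ ⊓ Q) inf_le_right (by rw [inf_relIndex_right, relIndex_comap, hi])
    (fun b hb => ⟨mem_comap.2 ((hk b).2 hb.2 ▸ one_mem _), hb.1⟩) a ha y fun b hb => by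
      rw [← hk, map_mul, map_mul, map_mul, ← hy.2 _ hb.1, map_inv, map_inv]; group
  have a2 := inv_eq_of_mul_eq_one_right (sq _ (mem_map_of_mem ρ ha))
  have := odd (ρ (a * (y * a * y⁻¹))) (by
    rw [map_mul, map_mul, map_mul, map_inv, ← mul_assoc, ← mul_assoc]
    exact mul_mem (by simpa [a2] using hF.conj_mem _ hy.1 (ρ a)) (inv_mem hy.1))
    (by rw [← map_pow, hk]; exact h3)
  rw [map_mul, map_mul, map_mul, map_inv] at this
  exact (mul_inv_eq_iff_eq_mul.1 ((inv_eq_of_mul_eq_one_right this).symm.trans a2)).symm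

namespace Par

variable (p : Par H Q)
include p

theorem comm (ha : a ∈ Q) (hb : b ∈ Q) : a * b = b * a := (p.cent.ge hb) a ha

theorem le : Q ≤ H := p.norm ▸ normG Q

theorem conj_mem (hg : g ∈ H) (ha : a ∈ Q) : g * a * g⁻¹ ∈ Q :=
  conj_mem_of_mem_norm (p.norm.ge hg) ha

theorem cent_mul (hq : q ∈ Q) : Q ⊓ 𝒞[q * a] = Q ⊓ 𝒞[a] := by
  ext b
  refine and_congr_right fun hb => ?_
  show b ∈ 𝒞[q * a] ↔ b ∈ 𝒞[a]
  rw [mem_cent1, mem_cent1, ← mul_assoc, p.comm hb hq, mul_assoc, mul_assoc, mul_left_cancel_iff]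

theorem sq_bound (aH : a ∈ H) (a2 : a * a ∈ Q) (hA : A ≤ Q) (hB : ∀ u ∈ A, a * u * a⁻¹ * u ∈ B) :
    Nat.card A ≤ Nat.card ↥(Q ⊓ 𝒞[a]) * Nat.card ↥(B ⊓ (Q ⊓ 𝒞[a])) := by
  let f : A →* G := MonoidHom.mk' (fun q => a * q * a⁻¹ * q) fun u v => by
    have := p.comm (hA u.2) (p.conj_mem aH (hA v.2))
    calc a * (u * v : G) * a⁻¹ * (u * v) = a * u * a⁻¹ * (a * v * a⁻¹ * u) * v := by group
      _ = _ := by rw [← this]; group
  have h1 : f.range ≤ B ⊓ (Q ⊓ 𝒞[a]) := by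
    rintro _ ⟨u, rfl⟩
    have hu := hA u.2
    refine ⟨hB u u.2, mul_mem (p.conj_mem aH hu) hu, mem_cent1.2 ?_⟩
    show a * u * a⁻¹ * u * a = a * (a * u * a⁻¹ * u)
    calc a * u * a⁻¹ * u * a = u * (a * u * a⁻¹) * a := by rw [p.comm (p.conj_mem aH hu) hu]
      _ = u * (a * a) * a⁻¹ * u := by group
      _ = _ := by rw [← p.comm a2 hu]; group
  have h2 : f.ker.map A.subtype ≤ Q ⊓ 𝒞[a] := by
    rintro _ ⟨u, hu, rfl⟩
    have : a * u * a⁻¹ * u = 1 := hu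
    rw [← p.exp u (hA u.2), mul_left_inj] at this
    exact ⟨hA u.2, mem_cent1.2 (mul_inv_eq_iff_eq_mul.1 this).symm⟩
  rw [← f.ker.card_mul_index, index_ker, ← card_map_of_injective A.subtype_injective]
  exact Nat.mul_le_mul (BG.card_le_of_le h2) (BG.card_le_of_le h1)

variable (h : Cl G)
include h

theorem card_c (aH : a ∈ H) (aQ : a ∉ Q) (a2 : a * a ∈ Q) :
    Nat.card ↥(Q ⊓ 𝒞[a]) * Nat.card ↥(Q ⊓ 𝒞[a]) = Nat.card Q := by
  refine le_antisymm ?_ ((p.sq_bound aH a2 le_rfl (B := ⊤) fun _ _ => trivial).trans_eq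
    (by rw [top_inf_eq]))
  obtain ⟨f, fH, q, hq, o5, e, -⟩ := p.dih a aH aQ a2
  rw [← p.cent_mul hq]
  generalize q * a = t at *
  have h1 : cj f (Q ⊓ 𝒞[t]) ≤ Q := cj_le_of_mem_norm (p.norm.ge fH) inf_le_left
  have h2 := mul_cardG (H := Q ⊓ 𝒞[t]) (K := cj f (Q ⊓ 𝒞[t]))
    (.inl (cents_norm (centSS inf_le_left h1 p.cent.ge)))
  have h3 : Q ⊓ 𝒞[t] ⊓ cj f (Q ⊓ 𝒞[t]) = ⊥ := eq_bot_iff.2 fun d hd => by
    have e1 : Commute d t := mem_cent1.1 hd.1.2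
    have e2 : Commute d (f * t * f⁻¹) := mem_cent1.1 (cj_cent1 f t ▸ cj_mono f inf_le_right hd.2)
    have e3 : f * t * f⁻¹ * t⁻¹ = f ^ 2 := by
      calc _ = f * (t * f * t⁻¹)⁻¹ := by group
        _ = _ := by rw [e, inv_inv, pow_two]
    exact h.fpf5 (two_of_sq p.exp) (f := f ^ 2) (by
      rw [(show (orderOf f).Coprime 2 by rw [o5]; norm_num).orderOf_pow, o5]) d hd.1.1
      (e3 ▸ (e2.mul_right e1.inv_right).eq.symm)
  rw [h3, card_bot, mul_one, card_cj] at h2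
  exact h2 ▸ BG.card_le_of_le (sup_le inf_le_left h1)

theorem cases : Nat.card Q = 16 ∨ 256 ≤ Nat.card Q := by
  obtain ⟨a, aH, aQ, a2⟩ := p.ex
  obtain ⟨f, fH, -, -, o5, -⟩ := p.dih a aH aQ a2
  have h1 := Frob.card_modEq_one_of_fpf (K := Q) (H := zpowers f) (zpowers_le.2 (p.norm.ge fH))
    fun x hx x1 => Frob.fpf_iff.2 fun k hk e => h.fpf5 (two_of_sq p.exp) (by
      have := order_dvdG hx
      rw [Nat.card_zpowers, o5, Nat.dvd_prime Nat.prime_five] at this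
      exact (this.resolve_left (mt orderOf_eq_one_iff.1 x1)).symm.dvd) k hk e.symm
  obtain ⟨j, hj⟩ := pgroup_card Nat.prime_two ((two_of_sq p.exp).to_inf_left (K := 𝒞[a]))
  have h2 := cardG_gt1.2 p.ne
  rw [Nat.card_zpowers, o5] at h1
  rw [← p.card_c h aH aQ a2, hj] at h1 h2 ⊢
  rcases j with _ | _ | _ | _ | j
  · simp at h2
  · exact absurd h1 (by decide)
  · exact Or.inl rfl
  · exact absurd h1 (by decide)
  · have := Nat.pow_le_pow_right two_pos (by omega : 4 ≤ j + 1 + 1 + 1 + 1)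
    exact Or.inr (Nat.mul_le_mul this this)

theorem off (hB : B ≤ H) (h2 : ∀ a ∈ B, a * a = 1) (ha : a ∈ B) (aQ : a ∉ Q) :
    Q ⊓ B ≤ Q ⊓ 𝒞[a] ∧ Nat.card ↥(Q ⊓ 𝒞[a]) * Nat.card ↥(Q ⊓ 𝒞[a]) = Nat.card Q :=
  ⟨fun b hb => ⟨hb.1, mem_cent1.2 (comm_of_sq (h2 b hb.2) (h2 a ha) (h2 _ (mul_mem hb.2 ha)))⟩,
    p.card_c h (hB ha) aQ (h2 a ha ▸ one_mem Q)⟩

theorem big_le (hQ : 256 ≤ Nat.card Q) (hB : B ≤ H) (h2 : ∀ a ∈ B, a * a = 1)
    (hc : Nat.card Q ≤ 2 * Nat.card B) : B ≤ Q := fun a ha => by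
  by_contra aQ
  obtain ⟨h1, h3⟩ := p.off h hB h2 ha aQ
  have h4 := BG.card_le_of_le h1
  have h5 := LagrangeI Q B
  have h6 := Nat.mul_le_mul h4 (p.four B hB (two_of_sq h2))
  generalize Nat.card ↥(Q ⊓ 𝒞[a]) = c at *
  have : c ≤ 8 := by nlinarith
  nlinarith

theorem w1 (hT : IsPGroup 2 T) (QT : Q ≤ T) : T ≤ H := by
  by_contra hn
  obtain ⟨s, hs, hs'⟩ := SetLike.exists_of_lt (nilpotent_proper_norm (pgroup_nil Nat.prime_two hT)
    (lt_of_le_of_ne (inf_le_left : T ⊓ H ≤ T) fun e => hn (e.ge.trans inf_le_right)))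
  have h1 : cj s Q ≤ T ⊓ H := cj_le_of_mem_norm hs.2 (le_inf QT p.le)
  have h2 : ¬ cj s Q ≤ Q := fun e => hs' ⟨hs.1, p.norm.le (mem_norm_of_cj_le e)⟩
  have BH := h1.trans inf_le_right
  have sq := sq_cj (g := s) p.exp
  rcases p.cases h with c | c
  swap
  · exact h2 (p.big_le h c BH sq (by rw [card_cj]; omega))
  have k : ∀ a ∈ cj s Q, a ∉ Q → Q ⊓ cj s Q = Q ⊓ 𝒞[a] ∧ Q.relIndex (cj s Q) = 4 := fun a ha aQ => by
    obtain ⟨e1, e2⟩ := p.off h BH sq ha aQ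
    have h4 := BG.card_le_of_le e1
    have h5 := LagrangeI Q (cj s Q)
    have h6 := p.four _ BH (two_of_sq sq)
    have h7 : Nat.card ↥(Q ⊓ 𝒞[a]) = 4 := by nlinarith
    rw [card_cj] at h5
    exact ⟨eq_of_le_card e1 (by nlinarith), by nlinarith⟩
  obtain ⟨a, ha, aQ⟩ := SetLike.not_le_iff_exists.1 h2
  have BN := BH.trans p.norm.ge
  have e : Q ⊔ cj s Q = T ⊓ H := eq_of_le_card (sup_le (le_inf QT p.le) h1) (by
    rw [← Lagrange (le_inf QT p.le), ← Lagrange (le_sup_left : Q ≤ Q ⊔ cj s Q), relIndex_sup_norm BN,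
      (k a ha aQ).2]
    exact Nat.mul_le_mul_left _ (p.four _ inf_le_right hT.to_inf_left))
  have inv : ∀ x ∈ T ⊓ H, x * x = 1 → x ∈ Q ∨ x ∈ cj s Q := fun x hx x2 => by
    obtain ⟨q, hq, b, hb, rfl⟩ := (mem_sup_norm_l BN).1 (e.ge hx)
    refine or_iff_not_imp_left.2 fun e => mul_mem ((k b hb fun e' => e (mul_mem hq e')).1.ge
      ⟨hq, mem_cent1.2 (comm_of_sq (p.exp q hq) (sq b hb) x2)⟩).2 hb
  have h3 : cj s (cj s Q) ≤ Q := fun x hx => by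
    have k := fun y hy => inv y (cj_le_of_mem_norm hs.2 h1 hy) (sq_cj sq y hy)
    have ha' := conj_mem_cj (g := s).2 ha
    have n := mt (conj_mem_cj (g := s)).1 aQ
    refine (k x hx).elim id fun e => (mul_mem_cancel_right ((k _ ha').resolve_right n)).1
      ((k _ (mul_mem hx ha')).resolve_right fun e' => n ((mul_mem_cancel_left e).1 e'))
  have h4 : s * s ∈ T ⊓ H := ⟨mul_mem hs.1 hs.1, p.norm.le (mem_norm_of_cj_le (cj_mul s s Q ▸ h3))⟩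
  have key : ∀ x ∈ Q, s * x * s⁻¹ * (s * s) * x ∈ Q ∨ s * x * s⁻¹ * (s * s) * x ∈ cj s Q :=
    fun x hx => inv _ (mul_mem (mul_mem (h1 (conj_mem_cj.2 hx)) h4) ⟨QT hx, p.le hx⟩) (by
      rw [← h.pow_four_of_mem hT (mul_mem hs.1 (QT hx))]; simp only [pow_succ]; group)
  have h5 : s * s ∈ Q := by
    have e1 : s * (s * s) * s⁻¹ = s * s := by group
    refine (key 1 (one_mem Q)).elim (by simp) fun e => h3 (e1 ▸ conj_mem_cj.2 (by simpa using e))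
  have h6 : s * s ∈ cj s Q := by simpa [mul_assoc] using conj_mem_cj (g := s).2 h5
  refine h2 (eq_of_le_card (fun x hx => ?_) (card_cj s Q).le).ge
  rcases key x hx with e | e
  · rw [mul_mem_cancel_right hx, mul_mem_cancel_right h5,
      ← eq_of_le_card h3 (by rw [card_cj, card_cj])] at e
    exact conj_mem_cj.1 e
  · exact (mul_mem_cancel_left (mul_mem (conj_mem_cj.2 hx) h6)).1 e

theorem sectional (hQ : Nat.card Q = 16) : SectionalPRankLE 2 4 G := by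
  have := Fact.mk Nat.prime_two
  obtain ⟨S, hS⟩ := (two_of_sq p.exp).exists_le_sylow
  refine Sect.sr_top_iff.2 (Sect.sr_of_sylow S fun K hK L hL => ?_)
  have KH := hK.trans (p.w1 h S.isPGroup' hS)
  by_cases e : K ≤ Q
  · exact (Nat.le_of_dvd Nat.card_pos (relIndex_dvd_card L K)).trans ((BG.card_le_of_le e).trans hQ.le)
  obtain ⟨a, ha, aQ⟩ := SetLike.not_le_iff_exists.1 e
  have a2 := p.sq a (KH ha) (h.pow_four_of_mem S.isPGroup' (hK ha))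
  have h1 := p.sq_bound (KH ha) a2 (inf_le_left : Q ⊓ K ≤ Q) (B := L ⊓ K) fun u hu =>
    ⟨by simpa [inv_eq_of_mul_eq_one_right (p.exp u hu.1)] using Sect.comm_mem hL ha hu.2,
      K.mul_mem (K.mul_mem (K.mul_mem ha hu.2) (inv_mem ha)) hu.2⟩
  have h2 := p.card_c h (KH ha) aQ a2
  have h3 := BG.card_le_of_le (inf_le_left : L ⊓ K ⊓ (Q ⊓ 𝒞[a]) ≤ _)
  have h4 := LagrangeI Q K
  have h5 := LagrangeI L K
  have h6 := p.four K KH (S.isPGroup'.to_le hK)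
  have h7 : Nat.card ↥(Q ⊓ 𝒞[a]) = 4 := by nlinarith
  have h8 := cardG_pos (L ⊓ K)
  rw [h7] at h1
  nlinarith [Nat.mul_le_mul h1 h6]

theorem b3 (hQ : 256 ≤ Nat.card Q) (h2 : IsCharacteristicTwoType G) (hq : q ∈ Q) (q1 : q ≠ 1) :
    𝒞[q] ≤ H := by
  have := Fact.mk Nat.prime_two
  have o2 : orderOf q = 2 := orderOf_eq_prime (by rw [pow_two, p.exp q hq]) q1
  have c2 := h2.2 (zpowers q) (pgroup_of_card_prime ((Nat.card_zpowers q).trans o2))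
    (mt zpowers_eq_bot.1 q1)
  have e : 𝒩(zpowers q) = 𝒞[q] := le_antisymm (fun g hg => by
    have h1 := conj_mem_of_mem_norm hg (mem_zpowers q)
    rw [Sect.mem_zpowers_two (p.exp q hq)] at h1
    exact mem_cent1.2 (mul_inv_eq_iff_eq_mul.1 (h1.resolve_left (by simpa using q1))))
    (cents_norm (cent_zpowers q).ge)
  rw [e] at c2
  have hs := h.solvable_cent o2
  have QY : Q ≤ 𝒞[q] := p.cent.ge.trans (cent_le_cent1 hq)
  generalize 𝒞[q] = Y at *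
  obtain ⟨R, hR⟩ : ∃ R, R = (pCore 2 Y).map Y.subtype := ⟨_, rfl⟩
  have mR : ∀ y : Y, y ∈ pCore 2 Y ↔ (y : G) ∈ R := fun y =>
    hR ▸ (mem_map_iff_mem Y.subtype_injective).symm
  have pR : IsPGroup 2 R := hR ▸ Core.isPGroup_map_pCore Y
  have YR : Y ≤ 𝒩(R) := by rw [hR, ← opOf_eq_map Nat.prime_two]; exact pcore_norm _ Y
  have RH : R ≤ H := le_sup_left.trans
    (p.w1 h (pgroupY (.inr (QY.trans YR)) pR (two_of_sq p.exp)) le_sup_right)
  by_cases QR : Q ≤ R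
  · exact fun y hy => p.norm.le (mem_norm_of_cj_le (p.big_le h hQ
      ((cj_le_of_mem_norm (YR hy) QR).trans RH) (sq_cj p.exp) (by rw [card_cj]; omega)))
  exfalso
  obtain ⟨B, BQ, hi, hB, a, ha, y, hy, hw⟩ := hyper (G := Y) (Q := Q.subgroupOf Y)
    (fun a ha => Subtype.ext (p.exp a ha)) fun e => QR fun a ha => (mR ⟨a, QY ha⟩).1 (e ha)
  replace ha : (a : G) ∈ Q := ha
  have BQ' := (map_le_iff_le_comap (f := Y.subtype) (H := Q)).2 BQ
  have h1 : cj (y : G) (B.map Y.subtype) ≤ Q := by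
    refine p.big_le h hQ (cj_le_iff.2 ?_) (sq_cj fun b hb => p.exp b (BQ' hb)) ?_
    · rintro _ ⟨b, hb, rfl⟩
      simpa using mul_mem (RH ((mR _).1 (hy b hb))) (p.le (BQ hb))
    · rw [card_cj, card_map_of_injective Y.subtype_injective, ← Core.card_subgroupOf_of_le QY,
        ← Lagrange BQ, hi, mul_comm]
  have h3 : cj (y : G) (B.map Y.subtype) = B.map Y.subtype := eq_of_le_card (cj_le_iff.2 (by
    rintro _ ⟨b, hb, rfl⟩
    have e1 : (y : G) * b * (y : G)⁻¹ ∈ Q := h1 (conj_mem_cj.2 (mem_map_of_mem _ hb))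
    have := mul_mem (hB ⟨Q.mul_mem e1 (Q.inv_mem (BQ hb)), hy b hb⟩) hb
    exact ⟨_, this, by simp⟩)) (card_cj _ _).ge
  have h4 : ∀ r ∈ R, r ∈ Q → (y : G)⁻¹ * r * y ∈ Q := fun r hr rQ => BQ' (mem_cj.1 (h3.ge
    (mem_map_of_mem _ (hB (x := ⟨r, QY rQ⟩) ⟨rQ, (mR _).2 hr⟩))))
  have h5 : ∀ r ∈ R, r ∈ Q → (y : G) * r * (y : G)⁻¹ ∈ Q := fun r hr rQ => h1 (conj_mem_cj.2
    (mem_map_of_mem _ (hB (x := ⟨r, QY rQ⟩) ⟨rQ, (mR _).2 hr⟩)))
  have cR : ∀ g : Y, ∀ r ∈ R, (g : G) * r * (g : G)⁻¹ ∈ R := fun g r hr =>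
    conj_mem_of_mem_norm (YR g.2) hr
  have h6 : ∀ r ∈ R, (a : G) * r * (a : G)⁻¹ * r⁻¹ ∈ Q := fun r hr => by
    simpa [mul_assoc] using mul_mem ha (p.conj_mem (RH hr) (inv_mem ha))
  obtain ⟨w, hw'⟩ : ∃ w, w = a * (y * a * y⁻¹) := ⟨_, rfl⟩
  have h7 : ∀ r ∈ R, r ∈ Q → (w : G) * r * (w : G)⁻¹ = r := fun r hr rQ => by
    have e1 := p.comm ha (h4 r hr rQ)
    have e2 := p.comm ha rQ
    calc _ = (a : G) * (y * (a * ((y : G)⁻¹ * r * y)) * (a : G)⁻¹ * (y : G)⁻¹) * (a : G)⁻¹ := by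
          rw [hw']; simp only [coe_mul, coe_inv]; group
      _ = a * r * (a : G)⁻¹ := by rw [e1]; group
      _ = _ := by rw [e2]; group
  have h8 : ∀ r ∈ R, (w : G) * r * (w : G)⁻¹ * r⁻¹ ∈ Q := fun r hr => by
    have m1 := cR y⁻¹ r hr
    have m2 := h5 _ (mul_mem (cR a _ m1) (inv_mem m1)) (h6 _ m1)
    have := mul_mem (p.conj_mem (p.le ha) m2) (h6 r hr)
    convert this using 1
    rw [hw']; simp only [coe_mul, coe_inv]; group
  refine hw (hw' ▸ c2 fun r hr => Subtype.ext ?_)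
  have hr' := (mR r).1 hr
  have e1 := h7 _ (mul_mem (cR w _ hr') (inv_mem hr')) (h8 _ hr')
  have e2 := p.exp _ (h8 _ hr')
  rw [coe_mul, coe_mul, coe_pow, eq_comm, ← mul_inv_eq_iff_eq_mul]
  calc _ = (w : G) * (w * r * (w : G)⁻¹ * (r : G)⁻¹) * (w : G)⁻¹ *
        (w * r * (w : G)⁻¹ * (r : G)⁻¹) * r := by rw [pow_two]; group
    _ = _ := by rw [e1, e2, one_mul]

end Par

theorem Min.not_big (h : Min G) (h2 : IsCharacteristicTwoType G) (p : Par 𝒩(Q) Q) :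
    ¬ 256 ≤ Nat.card Q := fun hQ => by
  have := Fact.mk Nat.prime_two
  have := h.simple
  have hne := h.norm_ne_top p.ne (two_of_sq p.exp)
  have sc : ∀ q ∈ Q, ∀ g, g * q * g⁻¹ ∈ 𝒩(Q) → g * q * g⁻¹ ∈ Q := fun q hq g aH => by
    by_contra aQ
    have q1 : q ≠ 1 := by rintro rfl; exact aQ (by simp)
    have e1 := p.card_c h.cl aH aQ (by rw [conj_mul, p.exp q hq]; simp)
    have e4 : cj g⁻¹ (Q ⊓ 𝒞[g * q * g⁻¹]) = cj g⁻¹ Q ⊓ 𝒞[q] := by
      rw [cj_inf, cj_cent1]; simp [mul_assoc]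
    have e2 := p.four (cj g⁻¹ Q ⊓ 𝒞[q]) (inf_le_right.trans (p.b3 h.cl hQ h2 hq q1))
      (two_of_sq (sq_cj p.exp)).to_inf_left
    have e3 := LagrangeI Q (cj g⁻¹ Q ⊓ 𝒞[q])
    rw [← card_cj g⁻¹, e4] at e1
    obtain ⟨d, hd, d1⟩ := exists_ne_one_of_ne_bot (cardG_gt1.1
      (lt_of_not_ge fun e => by nlinarith [Nat.mul_le_mul e e2] :
        1 < Nat.card ↥(Q ⊓ (cj g⁻¹ Q ⊓ 𝒞[q]))))
    have e5 : cj g⁻¹ Q ≤ 𝒞[d] := fun x hx => mem_cent1.2 (comm_of_sq (sq_cj p.exp x hx)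
      (p.exp d hd.1) (sq_cj p.exp _ (mul_mem hx hd.2.1)))
    exact aQ (p.conj_mem (inv_mem_iff.1 (mem_norm_of_cj_le (p.big_le h.cl hQ
      (e5.trans (p.b3 h.cl hQ h2 hd.1 d1)) (sq_cj p.exp) (by rw [card_cj]; omega)))) hq)
  obtain ⟨S, hS⟩ := (two_of_sq p.exp).exists_le_sylow
  obtain ⟨M, hM⟩ := Agent.S1174.result S Q p.ne
    ⟨hS, fun q hq g e => sc q hq g (p.w1 h.cl S.isPGroup' hS e)⟩ fun e => hne (top_le_iff.1
      (e ▸ iSup_le fun t => p.b3 h.cl hQ h2 t.2.1 fun e => by simpa [e] using t.2.2))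
  obtain ⟨s, hs, o2⟩ := Cauchy Nat.prime_two hM.2.1.two_dvd
  obtain ⟨g, hg⟩ : ∃ g, g * s * g⁻¹ ∉ M := by
    by_contra! hcon
    rcases (normalClosure_normal (s := {s})).eq_bot_or_eq_top with e | e
    · rw [mem_bot.1 (e.le (subset_normalClosure rfl))] at o2
      simp at o2
    · refine hM.1 (top_le_iff.1 (e ▸ (closure_le _).2 fun x hx => ?_))
      obtain ⟨_, e1, e2⟩ := Group.mem_conjugatesOfSet_iff.1 hx
      obtain ⟨g, rfl⟩ := isConj_iff.1 e2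
      exact e1 ▸ hcon g
  obtain ⟨a, aH, aQ, a2⟩ := p.ex
  obtain ⟨-, -, q, hq, -, -, e⟩ := p.dih a aH aQ a2
  have n : q * a ∉ Q := fun e => aQ ((mul_mem_cancel_left hq).1 e)
  obtain ⟨v, hv, v1⟩ := exists_ne_one_of_ne_bot p.ne
  obtain ⟨c, hc⟩ := isConj_iff.1 ((Agent.S1225.result M hM _ ((orderOf_conj g s).trans o2) hg s s o2 hs
    o2 hs).2 v (q * a) (orderOf_eq_prime (by rw [pow_two, p.exp v hv]) v1)
    (orderOf_eq_prime (by rw [pow_two, e]) fun e => n (e ▸ one_mem Q)))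
  exact n (hc ▸ sc v hv c (hc ▸ mul_mem (p.le hq) aH))

end CfsgLib.Ord6
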